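import Groth.Agent.KosCone.Basic
import Groth.Agent.KReg44.Swap
import Groth.Agent.KReg44.Basic
import Groth.Prelude.Def_DRing2
import Mathlib.Algebra.Category.ModuleCat.Monoidal.Basic
import Mathlib.LinearAlgebra.Pi
import Mathlib.Data.Fintype.Sum
import Mathlib.Data.Fintype.Sigma
import Mathlib.Data.Nat.Choose.Basic

/-! Homology of `K(xs ++ ys) ⊗ M` when `ys ⊆ (xs)`. -/

universe u
attribute [local instance] HasDerivedCategory.standard
open CategoryTheory Limits CochainComplex HomComplex

namespace Groth.Agent.KoszulMul.Append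

variable {A : Type u} [CommRing A]

/-- Homology of the cone of a null-homotopic endomorphism. -/
theorem cone_homology_split {K : CochainComplex (ModuleCat.{u} A) ℤ} (φ : K ⟶ K)
    (h : Homotopy φ 0) (i j : ℤ) (hij : i + 1 = j) :
    Nonempty ((mappingCone φ).homology i ≃ₗ[A] (↥(K.homology i) × ↥(K.homology j))) := by
  obtain ⟨z, hz⟩ := Cochain.equivHomotopy φ 0 h
  rw [Cochain.ofHom_zero, add_zero] at hz
  let r : mappingCone φ ⟶ K := mappingCone.desc φ z (𝟙 K) (by rw [Category.comp_id]; exact hz.symm)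
  have hr : mappingCone.inr φ ≫ r = 𝟙 K := mappingCone.inr_desc ..
  have hT := DerivedCategory.mappingCone_triangle_distinguished φ
  have hφ : HomologicalComplex.homologyMap φ j = 0 := by
    rw [h.homologyMap_eq, HomologicalComplex.homologyMap_zero]
  let T := mappingCone.triangle φ
  let ι : K.homology i →ₗ[A] (mappingCone φ).homology i :=
    (HomologicalComplex.homologyMap (mappingCone.inr φ) i).hom
  let δ : (mappingCone φ).homology i →ₗ[A] K.homology j :=
    (CochainComplex.homologyδOfTriangle T i j hij).hom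
  let ρ : (mappingCone φ).homology i →ₗ[A] K.homology i :=
    (HomologicalComplex.homologyMap r i).hom
  have hρι : ∀ y, ρ (ι y) = y := by
    intro y
    change (HomologicalComplex.homologyMap (mappingCone.inr φ) i ≫ HomologicalComplex.homologyMap r i) y = y
    rw [← HomologicalComplex.homologyMap_comp, hr, HomologicalComplex.homologyMap_id]
    rfl
  have hδι : ∀ y, δ (ι y) = 0 := fun y => ConcreteCategory.congr_hom
    (CochainComplex.homologyMap_homologyδOfTriangle _ hT i j hij) y
  refine ⟨LinearEquiv.ofBijective (ρ.prod δ) ⟨?_, ?_⟩⟩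
  · rw [← LinearMap.ker_eq_bot, LinearMap.ker_eq_bot']
    intro x hx
    obtain ⟨h1, h2⟩ := Prod.mk.inj hx
    obtain ⟨y, rfl⟩ : ∃ y, ι y = x := (ShortComplex.moduleCat_exact_iff _).mp
      (CochainComplex.homologyMap_exact₃_of_distTriang _ hT i j hij) x h2
    rw [hρι] at h1
    rw [h1, map_zero]
  · rintro ⟨a, b⟩
    obtain ⟨x, hx⟩ : ∃ x, δ x = b := (ShortComplex.moduleCat_exact_iff _).mp
      (CochainComplex.homologyMap_exact₁_of_distTriang _ hT i j hij) b (by
        change (HomologicalComplex.homologyMap φ j).hom b = 0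
        rw [hφ]; rfl)
    refine ⟨x + ι (a - ρ x), Prod.ext ?_ ?_⟩
    · change ρ (x + ι (a - ρ x)) = a
      rw [map_add, hρι, add_sub_cancel]
    · change δ (x + ι (a - ρ x)) = b
      rw [map_add, hδι, add_zero, hx]

/-- Termwise tensoring with `M`. -/
noncomputable abbrev T (M : ModuleCat.{u} A) : DRing.Cx A ⥤ DRing.Cx A :=
  (MonoidalCategory.tensorRight M).mapHomologicalComplex (ComplexShape.up ℤ)

theorem T_map_smul_id (M : ModuleCat.{u} A) (a : A) (K : DRing.Cx A) :
    (T M).map (a • 𝟙 K) = a • 𝟙 ((T M).obj K) := by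
  ext n : 1
  change (MonoidalCategory.tensorRight M).map (a • 𝟙 (K.X n)) = a • 𝟙 _
  rw [Functor.map_smul]
  exact congrArg (a • ·) ((MonoidalCategory.tensorRight M).map_id _)

theorem smul_homotopy (M : ModuleCat.{u} A) {l : List A} {a : A} (ha : a ∈ Ideal.ofList l) :
    Nonempty (Homotopy (a • 𝟙 ((T M).obj (Koszul.koszul A l))) 0) := by
  obtain ⟨v, hv⟩ := KReg44.exists_dot l a ha
  let h : Homotopy (a • 𝟙 (Koszul.koszul A l)) 0 :=
    (Cochain.equivHomotopy _ _).symm
      ⟨KoszulWiebe.Lop l v, by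
        rw [KoszulWiebe.δ_Lop, KoszulWiebe.ofHom_smul', Cochain.ofHom_zero, add_zero, hv]⟩
  exact ⟨((Homotopy.ofEq (T_map_smul_id M a _).symm).trans
    ((MonoidalCategory.tensorRight M).mapHomotopy h)).trans
    (Homotopy.ofEq ((T M).map_zero _ _))⟩

theorem cons_homology (M : ModuleCat.{u} A) (y : A) (l : List A) (hy : y ∈ Ideal.ofList l)
    (i : ℤ) :
    Nonempty (((T M).obj (Koszul.koszul A (y :: l))).homology i ≃ₗ[A]
      (↥(((T M).obj (Koszul.koszul A l)).homology i) × ↥(((T M).obj (Koszul.koszul A l)).homology (i + 1)))) := by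
  obtain ⟨h⟩ := smul_homotopy M hy
  obtain ⟨e⟩ := cone_homology_split _ h i (i + 1) rfl
  have i₁ : ((T M).obj (Koszul.koszul A (y :: l))) ≅
      mappingCone (y • 𝟙 ((T M).obj (Koszul.koszul A l))) :=
    mappingCone.mapHomologicalComplexIso (y • 𝟙 (Koszul.koszul A l)) (MonoidalCategory.tensorRight M)
      ≪≫ eqToIso (congrArg (fun φ => mappingCone φ) (T_map_smul_id M y _))
  exact ⟨((HomologicalComplex.homologyFunctor _ _ i).mapIso i₁).toLinearEquiv.trans e⟩

theorem append_homology (M : ModuleCat.{u} A) (xs : List A) :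
    ∀ ys : List A, (∀ y ∈ ys, y ∈ Ideal.ofList xs) →
    ∃ (ι : Type) (_ : Fintype ι) (w : ι → ℕ),
      (∀ j, Nat.card {i // w i = j} = ys.length.choose j) ∧
      ∀ m : ℤ, Nonempty (((T M).obj (Koszul.koszul A (ys ++ xs))).homology m ≃ₗ[A]
        ((i : ι) → ((T M).obj (Koszul.koszul A xs)).homology (m + (w i : ℤ))))
  | [], _ => by
    refine ⟨PUnit, inferInstance, fun _ => 0, fun j => ?_, fun m => ⟨?_⟩⟩
    · rcases j with _ | j <;> simp
    · exact (eqToIso (show ((T M).obj (Koszul.koszul A xs)).homology m =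
        ((T M).obj (Koszul.koszul A xs)).homology (m + ((0 : ℕ) : ℤ)) by simp)).toLinearEquiv.trans
        (LinearEquiv.funUnique PUnit A _).symm
  | y :: ys, hy => by
    obtain ⟨ι, hι, w, hw, he⟩ := append_homology M xs ys (fun z hz => hy z (by simp [hz]))
    refine ⟨ι ⊕ ι, inferInstance, Sum.elim w (fun i => w i + 1), fun j => ?_, fun m => ?_⟩
    · rw [Nat.card_congr (Equiv.subtypeSum (p := fun i => Sum.elim w (fun i => w i + 1) i = j)),
        Nat.card_sum]
      rcases j with _ | j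
      · simp [-Nat.card_eq_fintype_card, hw]
      · simp [-Nat.card_eq_fintype_card, hw, Nat.choose_succ_succ, add_comm]
    · have hy' : y ∈ Ideal.ofList (ys ++ xs) := by
        rw [Ideal.ofList_append]; exact Submodule.mem_sup_right (hy y (by simp))
      obtain ⟨e⟩ := cons_homology M y (ys ++ xs) hy' m
      obtain ⟨e₀⟩ := he m
      obtain ⟨e₁⟩ := he (m + 1)
      let G : ℕ → ModuleCat.{u} A := fun n =>
        ((T M).obj (Koszul.koszul A xs)).homology (m + (n : ℤ))
      let c : ((i : ι) → ((T M).obj (Koszul.koszul A xs)).homology (m + 1 + (w i : ℤ))) ≃ₗ[A]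
          ((i : ι) → G (w i + 1)) :=
        LinearEquiv.piCongrRight fun i => (eqToIso (congrArg
          (fun k : ℤ => ((T M).obj (Koszul.koszul A xs)).homology k)
          (show m + 1 + (w i : ℤ) = m + ((w i + 1 : ℕ) : ℤ) by push_cast; ring))).toLinearEquiv
      let d : (((i : ι) → G (w i)) × ((i : ι) → G (w i + 1))) ≃ₗ[A]
          ((i : ι ⊕ ι) → G (Sum.elim w (fun i => w i + 1) i)) :=
        (LinearEquiv.sumPiEquivProdPi A ι ι (fun i => G (Sum.elim w (fun i => w i + 1) i))).symm
      exact ⟨e.trans ((e₀.prodCongr (e₁.trans c)).trans d)⟩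

theorem nonempty_regroup (r : ℕ) {ι : Type} [Fintype ι] (w : ι → ℕ)
    (hw : ∀ j, Nat.card {i // w i = j} = r.choose j)
    (G : ℕ → Type u) [∀ n, AddCommGroup (G n)] [∀ n, Module A (G n)] :
    Nonempty (((i : ι) → G (w i)) ≃ₗ[A]
      ((j : Fin (r + 1)) → Fin (r.choose j) → G j)) := by
  have hlt : ∀ i, w i < r + 1 := fun i => by
    by_contra h
    have h0 : Nat.card {i' // w i' = w i} = 0 := by
      rw [hw, Nat.choose_eq_zero_of_lt (by omega)]
    have : Nonempty {i' // w i' = w i} := ⟨⟨i, rfl⟩⟩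
    exact Nat.card_pos.ne' h0
  let w' : ι → Fin (r + 1) := fun i => ⟨w i, hlt i⟩
  have hc : ∀ j, Nonempty ({i // w' i = j} ≃ Fin (r.choose j)) := fun j => by
    refine ⟨Fintype.equivFinOfCardEq ?_⟩
    rw [← hw j, ← Nat.card_eq_fintype_card]
    exact Nat.card_congr (Equiv.subtypeEquivRight fun i => Fin.ext_iff)
  let fe : ∀ j, {i // w' i = j} ≃ Fin (r.choose j) := fun j => (hc j).some
  let e : ι ≃ Σ j : Fin (r + 1), Fin (r.choose j) :=
    (Equiv.sigmaFiberEquiv w').symm.trans (Equiv.sigmaCongrRight fe)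
  exact ⟨(LinearEquiv.piCongrLeft A (fun p : Σ j : Fin (r + 1), Fin (r.choose j) => G p.1) e).trans
    (LinearEquiv.piCurry A (fun (j : Fin (r + 1)) (_ : Fin (r.choose j)) => G j))⟩

theorem homology_append_of_mem_span (M : ModuleCat.{u} A) (xs ys : List A)
    (hy : ∀ y ∈ ys, y ∈ Ideal.ofList xs) (m : ℤ) :
    Nonempty (((T M).obj (Koszul.koszul A (xs ++ ys))).homology m ≅
      ModuleCat.of A ((j : Fin (ys.length + 1)) → Fin (ys.length.choose j) →
        ((T M).obj (Koszul.koszul A xs)).homology (m + j))) := by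
  obtain ⟨ι, hι, w, hw, he⟩ := append_homology M xs ys hy
  obtain ⟨e⟩ := he m
  obtain ⟨p⟩ := KReg44.nonempty_iso_of_perm (List.perm_append_comm (l₁ := xs) (l₂ := ys))
  obtain ⟨g⟩ := nonempty_regroup (A := A) ys.length w hw
    (fun n => ((T M).obj (Koszul.koszul A xs)).homology (m + (n : ℤ)))
  exact ⟨(HomologicalComplex.homologyFunctor _ _ m).mapIso ((T M).mapIso p) ≪≫
    (e.trans g).toModuleIso⟩

end Groth.Agent.KoszulMul.Append
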