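import Groth.Prelude.Def_Koszul
import Mathlib.Algebra.Homology.ShortComplex.ModuleCat
import Mathlib.Algebra.Homology.SingleHomology
import Mathlib.Algebra.Category.ModuleCat.Biproducts
import Mathlib.Algebra.Regular.SMul
import Mathlib.RingTheory.Ideal.Operations
import Mathlib.RingTheory.Ideal.Span
import Mathlib.LinearAlgebra.Quotient.Basic
import Mathlib.CategoryTheory.Limits.Types.Pullbacks
import Mathlib.Algebra.Category.ModuleCat.Limits

/-! The Koszul complex of `(x f₁, …, x fₙ)` is the Koszul complex of `(f₁, …, fₙ)` with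
differentials multiplied by `x`. -/

universe u
open CategoryTheory CochainComplex.HomComplex
open scoped nonZeroDivisors Pointwise

namespace Groth.Agent.KoszulMul.Basic

variable {A : Type u} [CommRing A]

theorem exists_scale_cone (x f : A) {K' K : CochainComplex (ModuleCat.{u} A) ℤ}
    (e : ∀ i, K'.X i ≅ K.X i)
    (he : ∀ i j, i + 1 = j → K'.d i j ≫ (e j).hom = x • ((e i).hom ≫ K.d i j))
    (φ' : K' ⟶ K') (hφ' : φ' = (x * f) • 𝟙 K') (φ : K ⟶ K) (hφ : φ = f • 𝟙 K) :
    ∃ E : ∀ i, (CochainComplex.mappingCone φ').X i ≅ (CochainComplex.mappingCone φ).X i,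
      ∀ i j, i + 1 = j → (CochainComplex.mappingCone φ').d i j ≫ (E j).hom =
        x • ((E i).hom ≫ (CochainComplex.mappingCone φ).d i j) := by
  let E : ∀ i, (CochainComplex.mappingCone φ').X i ≅ (CochainComplex.mappingCone φ).X i := fun i =>
    { hom := (CochainComplex.mappingCone.fst φ').1.v i (i + 1) rfl ≫ (e (i + 1)).hom ≫
          (CochainComplex.mappingCone.inl φ).v (i + 1) i (by omega) +
        (CochainComplex.mappingCone.snd φ').v i i (add_zero i) ≫ (e i).hom ≫
          (CochainComplex.mappingCone.inr φ).f i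
      inv := (CochainComplex.mappingCone.fst φ).1.v i (i + 1) rfl ≫ (e (i + 1)).inv ≫
          (CochainComplex.mappingCone.inl φ').v (i + 1) i (by omega) +
        (CochainComplex.mappingCone.snd φ).v i i (add_zero i) ≫ (e i).inv ≫
          (CochainComplex.mappingCone.inr φ').f i
      hom_inv_id := by
        apply CochainComplex.mappingCone.ext_to φ' i (i + 1) rfl <;> simp
      inv_hom_id := by
        apply CochainComplex.mappingCone.ext_to φ i (i + 1) rfl <;> simp }
  have hfst : ∀ (i j : ℤ) (h : i + 1 = j), (E i).hom ≫ (CochainComplex.mappingCone.fst φ).1.v i j h =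
      (CochainComplex.mappingCone.fst φ').1.v i j h ≫ (e j).hom := by
    rintro i j rfl; simp [E]
  have hsnd : ∀ i, (E i).hom ≫ (CochainComplex.mappingCone.snd φ).v i i (add_zero i) =
      (CochainComplex.mappingCone.snd φ').v i i (add_zero i) ≫ (e i).hom := by
    intro i; simp [E]
  refine ⟨E, fun i j hij => ?_⟩
  apply CochainComplex.mappingCone.ext_to φ j (j + 1) rfl
  · rw [Category.assoc, hfst j (j + 1) rfl, ← Category.assoc,
      CochainComplex.mappingCone.d_fst_v φ' i j (j + 1) hij rfl, Linear.smul_comp,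
      Category.assoc, CochainComplex.mappingCone.d_fst_v φ i j (j + 1) hij rfl,
      Preadditive.comp_neg, ← Category.assoc, hfst i j hij, Preadditive.neg_comp,
      Category.assoc, Category.assoc, he j (j + 1) rfl, Linear.comp_smul, smul_neg]
  · rw [Category.assoc, hsnd j, ← Category.assoc,
      CochainComplex.mappingCone.d_snd_v φ' i j hij, Linear.smul_comp, Category.assoc,
      CochainComplex.mappingCone.d_snd_v φ i j hij, Preadditive.comp_add,
      Preadditive.add_comp, ← Category.assoc, ← Category.assoc (E i).hom, hfst i j hij, hsnd i,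
      Category.assoc, Category.assoc, Category.assoc, Category.assoc, he i j hij, smul_add]
    simp [hφ, hφ', smul_smul, Linear.comp_smul, Linear.smul_comp]

/-- `K(x l)` is `K(l)` with differentials scaled by `x`. -/
theorem exists_scale (x : A) : ∀ (l : List A),
    ∃ e : ∀ i, (Koszul.koszul A (l.map (fun f => x * f))).X i ≅ (Koszul.koszul A l).X i,
      ∀ i j, i + 1 = j → (Koszul.koszul A (l.map (fun f => x * f))).d i j ≫ (e j).hom =
        x • ((e i).hom ≫ (Koszul.koszul A l).d i j)
  | [] => ⟨fun i => Iso.refl _, fun i j _ => by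
      change ((CochainComplex.singleFunctor (ModuleCat.{u} A) 0).obj (ModuleCat.of A A)).d i j ≫ 𝟙 _ =
        x • (𝟙 _ ≫ ((CochainComplex.singleFunctor (ModuleCat.{u} A) 0).obj (ModuleCat.of A A)).d i j)
      simp [CochainComplex.singleFunctor, CochainComplex.singleFunctors, smul_zero]
      exact (smul_zero x).symm⟩
  | f :: l => by
    obtain ⟨e, he⟩ := exists_scale x l
    exact exists_scale_cone x f e he _ rfl _ rfl

/-- The terms of a Koszul complex are torsion free for non-zero-divisors. -/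
theorem isSMulRegular_X {x : A} (hx : x ∈ A⁰) : ∀ (l : List A) (i : ℤ),
    IsSMulRegular ((Koszul.koszul A l).X i) x
  | [], i => by
    by_cases h : i = 0
    · subst h
      intro a b hab
      let t := (HomologicalComplex.singleObjXSelf (ComplexShape.up ℤ) 0
        (ModuleCat.of A A)).toLinearEquiv
      apply t.injective
      have h2 : x • t a = x • t b :=
        (t.map_smul x a).symm.trans ((congrArg t hab).trans (t.map_smul x b))
      have h3 : x * (t a : A) = x * (t b : A) := h2
      exact mul_cancel_left_mem_nonZeroDivisors hx |>.mp h3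
    · have : Subsingleton ((Koszul.koszul A ([] : List A)).X i) := ModuleCat.subsingleton_of_isZero
        (HomologicalComplex.isZero_single_obj_X (ComplexShape.up ℤ) 0 (ModuleCat.of A A) i h)
      intro a b _
      exact Subsingleton.elim _ _
  | f :: l, i => by
    intro a b hab
    let t := ((HomologicalComplex.homotopyCofiber.XIsoBiprod (f • 𝟙 (Koszul.koszul A l)) i (i + 1) rfl)
      ≪≫ ModuleCat.biprodIsoProd _ _).toLinearEquiv
    apply t.injective
    have h1 : x • t a = x • t b :=
      (t.map_smul x a).symm.trans ((congrArg t hab).trans (t.map_smul x b))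
    exact Prod.ext (isSMulRegular_X hx l (i + 1) (congrArg Prod.fst h1))
      (isSMulRegular_X hx l i (congrArg Prod.snd h1))

theorem homology_iso_of_surjective (S : ShortComplex (ModuleCat.{u} A)) {Q : Type u} [AddCommGroup Q]
    [Module A Q] (π : ↥(LinearMap.ker S.g.hom) →ₗ[A] Q) (hs : Function.Surjective π)
    (hk : LinearMap.ker π = LinearMap.range S.moduleCatToCycles) :
    Nonempty (S.homology ≅ ModuleCat.of A Q) :=
  ⟨S.moduleCatHomologyIso ≪≫
    ((Submodule.quotEquivOfEq _ _ hk.symm).trans (π.quotKerEquivOfSurjective hs)).toModuleIso⟩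

theorem homology_iso_of_maps (S : ShortComplex (ModuleCat.{u} A)) {M₁ M₂ : Type u} [AddCommGroup M₁]
    [Module A M₁] [AddCommGroup M₂] [Module A M₂] (x : A) (d : M₁ →ₗ[A] M₂) (Z : Submodule A M₂)
    (e₁ : S.X₁ ≃ₗ[A] M₁) (e₂ : S.X₂ ≃ₗ[A] M₂) (hz : ∀ w, S.g.hom w = 0 ↔ e₂ w ∈ Z)
    (hd : ∀ v, e₂ (S.f.hom v) = x • d (e₁ v)) :
    Nonempty (S.homology ≅
      ModuleCat.of A (↥Z ⧸ Submodule.comap Z.subtype (Ideal.span {x} • LinearMap.range d))) := by
  let N := Submodule.comap Z.subtype (Ideal.span {x} • LinearMap.range d)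
  let φ : ↥(LinearMap.ker S.g.hom) →ₗ[A] ↥Z :=
    (e₂.toLinearMap.comp (LinearMap.ker S.g.hom).subtype).codRestrict Z (fun w => (hz w.1).1 w.2)
  refine homology_iso_of_surjective S (N.mkQ.comp φ) ?_ ?_
  · refine (Submodule.mkQ_surjective N).comp fun z => ?_
    exact ⟨⟨e₂.symm z.1, (hz _).2 (by rw [e₂.apply_symm_apply]; exact z.2)⟩,
      Subtype.ext (e₂.apply_symm_apply z.1)⟩
  · ext w
    rw [LinearMap.mem_ker, LinearMap.comp_apply, Submodule.mkQ_apply, Submodule.Quotient.mk_eq_zero,
      Submodule.mem_comap]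
    constructor
    · intro hw
      have hw' : e₂ w.1 ∈ Ideal.span {x} • LinearMap.range d := hw
      rw [Submodule.ideal_span_singleton_smul, Submodule.mem_smul_pointwise_iff_exists] at hw'
      obtain ⟨y, ⟨v, rfl⟩, hy⟩ := hw'
      refine ⟨e₁.symm v, Subtype.ext (e₂.injective ?_)⟩
      change e₂ (S.f.hom (e₁.symm v)) = e₂ w.1
      rw [hd, e₁.apply_symm_apply]
      exact hy
    · rintro ⟨v, rfl⟩
      change e₂ (S.f.hom v) ∈ _
      rw [hd]
      exact Submodule.smul_mem_smul (Ideal.mem_span_singleton_self x) ⟨_, rfl⟩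

theorem sc'_homology {K : CochainComplex (ModuleCat.{u} A) ℤ} (q : ℤ) :
    Nonempty (K.homology q ≅ (K.sc' (q - 1) q (q + 1)).homology) :=
  ⟨ShortComplex.homologyMapIso (K.isoSc' (q - 1) q (q + 1) (by simp) (by simp))⟩

theorem homology_iso_of_scaled {K' K : CochainComplex (ModuleCat.{u} A) ℤ} (x : A)
    (e : ∀ i, K'.X i ≅ K.X i)
    (he : ∀ i j, i + 1 = j → K'.d i j ≫ (e j).hom = x • ((e i).hom ≫ K.d i j))
    (q : ℤ) (hreg : IsSMulRegular (K.X (q + 1)) x) :
    Nonempty (K'.homology q ≅
      ModuleCat.of A (↥(LinearMap.ker (K.d q (q + 1)).hom) ⧸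
        Submodule.comap (LinearMap.ker (K.d q (q + 1)).hom).subtype
          (Ideal.span {x} • LinearMap.range (K.d (q - 1) q).hom))) := by
  have ha : ∀ i j, i + 1 = j → ∀ w : K'.X i,
      (e j).hom (K'.d i j w) = x • (K.d i j ((e i).hom w)) := fun i j h w =>
    ConcreteCategory.congr_hom (he i j h) w
  have hker : ∀ z : K'.X q, K'.d q (q + 1) z = 0 ↔ K.d q (q + 1) ((e q).hom z) = 0 := by
    intro z
    rw [← (e (q + 1)).toLinearEquiv.map_eq_zero_iff]
    change (e (q + 1)).hom _ = 0 ↔ _
    rw [ha q _ rfl z]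
    exact ⟨fun h => hreg (show x • _ = x • (0 : K.X (q + 1)) by rw [h, smul_zero]),
      fun h => by rw [h, smul_zero]⟩
  obtain ⟨i₁⟩ := sc'_homology (K := K') q
  obtain ⟨i₂⟩ := homology_iso_of_maps (K'.sc' (q - 1) q (q + 1)) x (K.d (q - 1) q).hom
    (LinearMap.ker (K.d q (q + 1)).hom) (e (q - 1)).toLinearEquiv (e q).toLinearEquiv hker
    (ha (q - 1) q (by omega))
  exact ⟨i₁ ≪≫ i₂⟩

theorem homology_koszul_mul (l : List A) {x : A} (hx : x ∈ A⁰) (q : ℤ) :
    Nonempty ((Koszul.koszul A (l.map (fun f => x * f))).homology q ≅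
      ModuleCat.of A (↥(LinearMap.ker ((Koszul.koszul A l).d q (q + 1)).hom) ⧸
        Submodule.comap (LinearMap.ker ((Koszul.koszul A l).d q (q + 1)).hom).subtype
          (Ideal.span {x} • LinearMap.range ((Koszul.koszul A l).d (q - 1) q).hom))) := by
  obtain ⟨e, he⟩ := exists_scale x l
  exact homology_iso_of_scaled x e he q (isSMulRegular_X hx l _)

theorem range_le_ker (K : CochainComplex (ModuleCat.{u} A) ℤ) (i j k : ℤ) :
    LinearMap.range (K.d i j).hom ≤ LinearMap.ker (K.d j k).hom := by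
  rintro _ ⟨v, rfl⟩
  exact ConcreteCategory.congr_hom (K.d_comp_d i j k) v

theorem ker_le_range_of_isZero {K : CochainComplex (ModuleCat.{u} A) ℤ} {q : ℤ}
    (h : Limits.IsZero (K.homology q)) :
    LinearMap.ker (K.d q (q + 1)).hom ≤ LinearMap.range (K.d (q - 1) q).hom := by
  have h1 : K.ExactAt q := (K.exactAt_iff_isZero_homology q).mpr h
  rw [K.exactAt_iff' (q - 1) q (q + 1) (by simp) (by simp)] at h1
  intro z hz
  exact (ShortComplex.moduleCat_exact_iff _).mp h1 z hz

theorem isPullback_factor {M : Type u} [AddCommGroup M] [Module A M] {N P Q R : Submodule A M}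
    (h₁ : N ≤ P) (h₂ : N ≤ Q) (h₃ : P ≤ R) (h₄ : Q ≤ R) (hN : P ⊓ Q ≤ N) (hR : R ≤ P ⊔ Q) :
    IsPullback (ModuleCat.ofHom (Submodule.factor h₁)) (ModuleCat.ofHom (Submodule.factor h₂))
      (ModuleCat.ofHom (Submodule.factor h₃)) (ModuleCat.ofHom (Submodule.factor h₄)) := by
  haveI : Limits.ReflectsLimit (Limits.cospan (ModuleCat.ofHom (Submodule.factor h₃))
      (ModuleCat.ofHom (Submodule.factor h₄))) (forget (ModuleCat.{u} A)) :=
    Limits.reflectsLimit_of_reflectsIsomorphisms _ _
  refine IsPullback.of_map (forget (ModuleCat.{u} A)) ?_ ?_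
  · ext x
    rfl
  rw [Limits.Types.isPullback_iff]
  refine ⟨?_, ?_, ?_⟩
  · ext x
    obtain ⟨x, rfl⟩ := Submodule.mkQ_surjective _ x
    rfl
  · rintro x y ⟨h1, h2⟩
    obtain ⟨x, rfl⟩ := Submodule.mkQ_surjective _ x
    obtain ⟨y, rfl⟩ := Submodule.mkQ_surjective _ y
    have h1' : (Submodule.mkQ P) x = Submodule.mkQ P y := h1
    have h2' : (Submodule.mkQ Q) x = Submodule.mkQ Q y := h2
    simp only [Submodule.mkQ_apply, Submodule.Quotient.eq] at h1' h2'
    exact (Submodule.Quotient.eq _).2 (hN ⟨h1', h2'⟩)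
  · intro x y h
    obtain ⟨x, rfl⟩ := Submodule.mkQ_surjective _ x
    obtain ⟨y, rfl⟩ := Submodule.mkQ_surjective _ y
    have h' : (Submodule.mkQ R) x = Submodule.mkQ R y := h
    rw [Submodule.mkQ_apply, Submodule.mkQ_apply, Submodule.Quotient.eq] at h'
    obtain ⟨p, hp, q, hq, hpq⟩ := Submodule.mem_sup.mp (hR h')
    refine ⟨Submodule.mkQ _ (x - p), ?_, ?_⟩
    · show Submodule.mkQ P (x - p) = Submodule.mkQ P x
      simp [Submodule.Quotient.eq, hp]
    · show Submodule.mkQ Q (x - p) = Submodule.mkQ Q y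
      have : x - p - y = q := by rw [sub_right_comm, ← hpq]; abel
      simp only [Submodule.mkQ_apply, Submodule.Quotient.eq, this, hq]

end Groth.Agent.KoszulMul.Basic
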