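import Groth.Agent.KosCone.Basic
import Groth.Agent.KoszulCech.Kos
import Groth.Agent.DRing.ExtCech
import Groth.Prelude.Def_LCI2
import Mathlib.Algebra.Homology.HomotopyCategory.MappingCocone
import Mathlib.Algebra.Homology.HomologySequence
import Mathlib.Algebra.Homology.ShortComplex.ModuleCat

/-! A Koszul-regular sequence has extended Cech cohomology only in top degree. -/

universe u
attribute [local instance] HasDerivedCategory.standard
open CategoryTheory Limits CochainComplex HomComplex

namespace Groth.Agent.KoszulMul.CechRegular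

variable {R : Type u} [CommRing R]

/-- Iterated cones of multiplications, starting from `E`. -/
noncomputable def It : List R → DRing.Cx R → DRing.Cx R
  | [], E => E
  | a :: l, E => mappingCone (a • 𝟙 (It l E))

theorem koszul_eq : ∀ l : List R,
    Koszul.koszul R l = It l ((singleFunctor (ModuleCat.{u} R) 0).obj (ModuleCat.of R R))
  | [] => rfl
  | a :: l => congrArg (fun K : DRing.Cx R => mappingCone (a • 𝟙 K)) (koszul_eq l)

theorem isZero_cone {K : DRing.Cx R} (a : R) (i j : ℤ) (hij : i + 1 = j)
    (hs : ∀ x : K.homology i, ∃ y, a • y = x) (hi : ∀ x : K.homology j, a • x = 0 → x = 0) :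
    IsZero ((mappingCone (a • 𝟙 K)).homology i) := by
  have hT := DerivedCategory.mappingCone_triangle_distinguished (a • 𝟙 K)
  have h1 : ∀ k, HomologicalComplex.homologyMap (mappingCone.triangle (a • 𝟙 K)).mor₁ k = a • 𝟙 _ :=
    fun k => KosCone.Basic.homologyMap_smul_id a K k
  refine @ModuleCat.isZero_of_subsingleton _ _ _ (subsingleton_of_forall_eq 0 fun x => ?_)
  have hδ := hi ((CochainComplex.homologyδOfTriangle (mappingCone.triangle (a • 𝟙 K)) i j hij).hom x) (by
    have := ConcreteCategory.congr_hom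
      (CochainComplex.homologyδOfTriangle_homologyMap _ hT i j hij) x
    rw [h1] at this
    exact this)
  obtain ⟨y, hy⟩ := (ShortComplex.moduleCat_exact_iff _).mp
    (CochainComplex.homologyMap_exact₃_of_distTriang _ hT i j hij) x hδ
  obtain ⟨z, rfl⟩ := hs y
  rw [← hy]
  have := ConcreteCategory.congr_hom
    (CochainComplex.homologyMap_comp_eq_zero_of_distTriang _ hT i) z
  rw [h1] at this
  exact this

theorem bijective_smul_It {f : R} : ∀ (l : List R) (L : DRing.Cx R),
    (∀ i, Function.Bijective fun x : L.X i => f • x) →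
    ∀ i, Function.Bijective fun x : (It l L).X i => f • x
  | [], L, h => h
  | a :: l, L, h => fun i => by
    let e := ((HomologicalComplex.homotopyCofiber.XIsoBiprod (a • 𝟙 (It l L)) i (i + 1) rfl) ≪≫
      ModuleCat.biprodIsoProd _ _).toLinearEquiv
    have hb := Function.Bijective.prodMap (bijective_smul_It l L h (i + 1)) (bijective_smul_It l L h i)
    let K' := (mappingCone (a • 𝟙 (It l L))).X i
    have hfun : (fun x : K' => f • x) = (fun z => e.symm z) ∘ Prod.map _ _ ∘ fun x : K' => e x :=
      funext fun x => (e.symm_apply_apply (f • x)).symm.trans (congrArg e.symm (map_smul e f x))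
    have hres : Function.Bijective fun x : K' => f • x := by
      rw [hfun]
      exact e.symm.bijective.comp (hb.comp e.bijective)
    exact hres

theorem acyclic_It {f : R} : ∀ (l : List R), f ∈ l → ∀ (L : DRing.Cx R),
    (∀ i, Function.Bijective fun x : L.X i => f • x) → ∀ i, IsZero ((It l L).homology i)
  | a :: l, hf, L, h, i => by
    change IsZero ((mappingCone (a • 𝟙 (It l L))).homology i)
    by_cases hfl : f ∈ l
    · refine isZero_cone a i (i + 1) rfl (fun x => ⟨0, ?_⟩) (fun x _ => ?_)
      · haveI := ModuleCat.subsingleton_of_isZero (acyclic_It l hfl L h i)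
        exact Subsingleton.elim _ _
      · haveI := ModuleCat.subsingleton_of_isZero (acyclic_It l hfl L h (i + 1))
        exact Subsingleton.elim _ _
    · obtain rfl : f = a := (List.mem_cons.1 hf).resolve_right hfl
      haveI : ∀ k, IsIso ((f • 𝟙 (It l L) : It l L ⟶ It l L).f k) := fun k =>
        (ConcreteCategory.isIso_iff_bijective _).2 (bijective_smul_It l L h k)
      haveI := HomologicalComplex.Hom.isIso_of_components (f • 𝟙 (It l L) : It l L ⟶ It l L)
      have hb : ∀ k, Function.Bijective fun x : (It l L).homology k => f • x := fun k => by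
        have h1 := (ConcreteCategory.isIso_iff_bijective
          (HomologicalComplex.homologyMap (f • 𝟙 (It l L)) k)).1 inferInstance
        rw [KosCone.Basic.homologyMap_smul_id] at h1
        exact h1
      exact isZero_cone f i (i + 1) rfl (fun x => (hb i).2 x)
        (fun x hx => (hb (i + 1)).1 (hx.trans (smul_zero f).symm))

/-- The bottom cohomology of the iterated cone is the torsion. -/
theorem exists_bottom (E : DRing.Cx R) (q : ℤ) (hq : ∀ i < q, IsZero (E.homology i)) :
    ∀ l : List R, (∀ i, i + (l.length : ℤ) < q → IsZero ((It l E).homology i)) ∧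
      ∀ m, m + (l.length : ℤ) = q → ∃ ψ : (It l E).homology m →ₗ[R] E.homology q,
        Function.Injective ψ ∧ ∀ x, (∀ a ∈ l, a • x = 0) → ∃ y, ψ y = x
  | [] => ⟨fun i hi => hq i (by simpa using hi), fun m hm => by
      obtain rfl : m = q := by simpa using hm
      exact ⟨LinearMap.id, Function.injective_id, fun x _ => ⟨x, rfl⟩⟩⟩
  | a :: l => by
    obtain ⟨hz, hψ⟩ := exists_bottom E q hq l
    simp only [List.length_cons, Nat.cast_succ]
    refine ⟨fun i hi => isZero_cone a i (i + 1) rfl (fun x => ⟨0, ?_⟩) (fun x _ => ?_), fun m hm => ?_⟩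
    · haveI := ModuleCat.subsingleton_of_isZero (hz i (by omega))
      exact Subsingleton.elim _ _
    · haveI := ModuleCat.subsingleton_of_isZero (hz (i + 1) (by omega))
      exact Subsingleton.elim _ _
    · obtain ⟨ψ, hinj, hr⟩ := hψ (m + 1) (by omega)
      have hT := DerivedCategory.mappingCone_triangle_distinguished (a • 𝟙 (It l E))
      let δ : (mappingCone (a • 𝟙 (It l E))).homology m →ₗ[R] (It l E).homology (m + 1) :=
        (CochainComplex.homologyδOfTriangle (mappingCone.triangle (a • 𝟙 (It l E))) m (m + 1) rfl).hom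
      refine ⟨ψ ∘ₗ δ, hinj.comp (fun y y' hy => ?_), fun x hx => ?_⟩
      · obtain ⟨z, hz'⟩ := (ShortComplex.moduleCat_exact_iff _).mp
          (CochainComplex.homologyMap_exact₃_of_distTriang _ hT m (m + 1) rfl) (y - y')
          (show δ (y - y') = 0 from (δ.map_sub y y').trans (sub_eq_zero.2 hy))
        have hzero : z = 0 := by
          haveI := ModuleCat.subsingleton_of_isZero (hz m (by omega))
          exact @Subsingleton.elim ((It l E).homology m) _ _ _
        rw [hzero, map_zero] at hz'
        exact sub_eq_zero.1 hz'.symm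
      · obtain ⟨w, rfl⟩ := hr x fun b hb => hx b (by simp [hb])
        have hw : a • w = 0 := hinj (by rw [map_smul, hx a (by simp), map_zero])
        obtain ⟨y, hy⟩ := (ShortComplex.moduleCat_exact_iff _).mp
          (CochainComplex.homologyMap_exact₁_of_distTriang _ hT m (m + 1) rfl) w (by
            change (HomologicalComplex.homologyMap (a • 𝟙 (It l E)) (m + 1)).hom w = 0
            rw [KosCone.Basic.homologyMap_smul_id]; exact hw)
        exact ⟨y, congrArg ψ hy⟩

theorem map_comp_zero {P₁ P₂ P₃ : CochainComplex (ModuleCat.{u} R) ℤ} (φ₁ : P₁ ⟶ P₁) (φ₂ : P₂ ⟶ P₂)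
    (φ₃ : P₃ ⟶ P₃) (g : P₁ ⟶ P₂) (h : P₂ ⟶ P₃) (c₁ : φ₁ ≫ g = g ≫ φ₂) (c₂ : φ₂ ≫ h = h ≫ φ₃)
    (w : g ≫ h = 0) :
    mappingCone.map φ₁ φ₂ g g c₁ ≫ mappingCone.map φ₂ φ₃ h h c₂ = 0 := by
  have hw : ∀ k, g.f k ≫ h.f k = 0 := fun k => by
    rw [← HomologicalComplex.comp_f, w]; rfl
  ext n : 1
  apply mappingCone.ext_from _ (n + 1) n rfl <;> simp [mappingCone.map, reassoc_of% hw]

/-- Iterated cones preserve short exactness. -/
theorem exists_shortExact : ∀ (l : List R) (S : ShortComplex (DRing.Cx R)), S.ShortExact →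
    ∃ (g : It l S.X₁ ⟶ It l S.X₂) (h : It l S.X₂ ⟶ It l S.X₃) (w : g ≫ h = 0),
      (ShortComplex.mk g h w).ShortExact
  | [], S, hS => ⟨S.f, S.g, S.zero, hS⟩
  | a :: l, S, hS => by
    obtain ⟨g, h, w, hse⟩ := exists_shortExact l S hS
    have hk : ∀ k, ((ShortComplex.mk g h w).map (HomologicalComplex.eval _ _ k)).ShortExact :=
      fun k => hse.map_of_exact _
    have c₁ : (a • 𝟙 (It l S.X₁)) ≫ g = g ≫ (a • 𝟙 (It l S.X₂)) := by simp
    have c₂ : (a • 𝟙 (It l S.X₂)) ≫ h = h ≫ (a • 𝟙 (It l S.X₃)) := by simp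
    refine ⟨mappingCone.map _ _ g g c₁, mappingCone.map _ _ h h c₂, ?_,
      HomologicalComplex.shortExact_of_degreewise_shortExact _ (fun k => ?_)⟩
    · exact map_comp_zero _ _ _ g h c₁ c₂ w
    · refine { exact := ?_, mono_f := ?_, epi_g := ?_ }
      · rw [ShortComplex.moduleCat_exact_iff]
        intro z hz
        refine KoszulCech.cone_map_exact _ _ g g c₁ _ h h c₂ ?_ ?_ k z hz
        · exact fun i x hx => (ShortComplex.moduleCat_exact_iff _).mp (hk i).exact x hx
        · exact fun i x hx => (ShortComplex.moduleCat_exact_iff _).mp (hk i).exact x hx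
      · exact (ModuleCat.mono_iff_injective _).2 (KoszulCech.cone_map_injective _ _ g g c₁
          (fun i => (hk i).moduleCat_injective_f) (fun i => (hk i).moduleCat_injective_f) k)
      · exact (ModuleCat.epi_iff_surjective _).2 (KoszulCech.cone_map_surjective _ _ h h c₂
          (fun i => (hk i).moduleCat_surjective_g) (fun i => (hk i).moduleCat_surjective_g) k)

theorem bijective_smul_loc (f : R) (N : ModuleCat.{u} R) :
    Function.Bijective fun x : LocalizedModule (Submonoid.powers f) N => f • x :=
  (Module.End.isUnit_iff _).1 (IsLocalizedModule.map_units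
    (LocalizedModule.mkLinearMap (Submonoid.powers f) N) ⟨f, Submonoid.mem_powers f⟩)

theorem exists_ses {K L : DRing.Cx R} (φ : K ⟶ L) {f : R}
    (hL : ∀ i, Function.Bijective fun x : L.X i => f • x) :
    ∃ (X : DRing.Cx R) (g : X ⟶ mappingCocone φ) (w : g ≫ mappingCocone.fst φ = 0),
      (ShortComplex.mk g (mappingCocone.fst φ) w).ShortExact ∧
      ∀ i, Function.Bijective fun x : X.X i => f • x := by
  let S := ShortComplex.mk (kernel.ι (mappingCocone.fst φ)) (mappingCocone.fst φ) (kernel.condition _)
  haveI : Epi (mappingCocone.fst φ) := by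
    haveI : ∀ i, Epi ((mappingCocone.fst φ).f i) := fun i =>
      (⟨⟨(mappingCocone.inl φ).v i i (add_zero i), by simp⟩⟩ : IsSplitEpi _).epi
    exact HomologicalComplex.epi_of_epi_f _ (fun i => inferInstance)
  have hS : S.ShortExact :=
    { exact := S.exact_of_f_is_kernel (kernelIsKernel (mappingCocone.fst φ))
      mono_f := inferInstanceAs (Mono (kernel.ι _))
      epi_g := inferInstanceAs (Epi (mappingCocone.fst φ)) }
  refine ⟨_, _, kernel.condition _, hS, fun i => ?_⟩
  have hi := hS.map_of_exact (HomologicalComplex.eval (ModuleCat.{u} R) (ComplexShape.up ℤ) i)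
  let t : S.X₁.X i →ₗ[R] L.X (i + -1) :=
    ((mappingCocone.snd φ).v i (i + -1) rfl).hom ∘ₗ (S.f.f i).hom
  have hid : ∀ z : (mappingCocone φ).X i,
      (mappingCocone.inl φ).v i i (add_zero i) ((mappingCocone.fst φ).f i z) +
        (mappingCocone.inr φ).1.v (i + -1) i (by omega) ((mappingCocone.snd φ).v i (i + -1) rfl z) = z :=
    fun z => ConcreteCategory.congr_hom (mappingCocone.id_X φ i (i + -1) rfl) z
  have hfg : ∀ x, (mappingCocone.fst φ).f i (S.f.f i x) = 0 := fun x =>
    ConcreteCategory.congr_hom (congrArg (fun m : S.X₁ ⟶ S.X₃ => m.f i) S.zero) x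
  have ht : Function.Bijective t := by
    refine ⟨LinearMap.ker_eq_bot.1 (LinearMap.ker_eq_bot'.2 fun x hx => ?_), fun y => ?_⟩
    · apply hi.moduleCat_injective_f
      change S.f.f i x = S.f.f i 0
      rw [map_zero, ← hid (S.f.f i x), hfg, map_zero, zero_add]
      exact (congrArg _ (show (mappingCocone.snd φ).v i (i + -1) rfl (S.f.f i x) = 0 from hx)).trans
        (map_zero _)
    · obtain ⟨x, hx⟩ := (ShortComplex.moduleCat_exact_iff _).mp hi.exact
        ((mappingCocone.inr φ).1.v (i + -1) i (by omega) y)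
        (ConcreteCategory.congr_hom (mappingCocone.inr_v_fst_f φ (i + -1) i (by omega)) y)
      refine ⟨x, ?_⟩
      change (mappingCocone.snd φ).v i (i + -1) rfl (S.f.f i x) = y
      erw [hx]
      exact ConcreteCategory.congr_hom (mappingCocone.inr_v_snd_v φ (i + -1) i (by omega)) y
  let e := LinearEquiv.ofBijective t ht
  let N := S.X₁.X i
  have hfun : (fun x : N => f • x) = (fun z => e.symm z) ∘ (fun y : L.X (i + -1) => f • y) ∘ fun x : N => e x :=
    funext fun x => (e.symm_apply_apply (f • x)).symm.trans (congrArg e.symm (map_smul e f x))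
  have hres : Function.Bijective fun x : N => f • x := by
    rw [hfun]
    exact e.symm.bijective.comp ((hL _).comp e.bijective)
  exact hres

theorem isZero_It_extCech (fs : List R) (hfs : LCI.IsKoszulRegularSeq R fs) :
    ∀ gs : List R, (∀ g ∈ gs, g ∈ fs) → ∀ i : ℤ, i ≠ 0 →
      IsZero ((It fs (DerCA.extCech (ModuleCat.of R R) gs)).homology i)
  | [], _, i, hi => by
    exact (hfs i hi).of_iso
      (eqToIso (congrArg (fun K : DRing.Cx R => K.homology i) (koszul_eq fs)).symm)
  | g :: gs, hgs, i, hi => by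
    obtain ⟨X, k, w, hS, hX⟩ := exists_ses (DerCA.locCxUnit (Submonoid.powers g)
      (DerCA.extCech (ModuleCat.of R R) gs)) (f := g) (fun j => bijective_smul_loc g _)
    obtain ⟨k', h', w', hS'⟩ := exists_shortExact fs _ hS
    exact (hS'.homology_exact₂ i).isZero_of_both_zeros
      ((acyclic_It fs (hgs g (by simp)) X hX i).eq_of_src _ _)
      ((isZero_It_extCech fs hfs gs (fun a ha => hgs a (by simp [ha])) i hi).eq_of_tgt _ _)

theorem eq_zero_of_torsion {N : Type u} [AddCommGroup N] [Module R N] (fs : List R)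
    (h0 : ∀ x : N, (∀ f ∈ fs, f • x = 0) → x = 0)
    (hp : ∀ x : N, ∀ f ∈ fs, ∃ n : ℕ, f ^ n • x = 0) :
    ∀ (l : List R), (∀ a ∈ l, a ∈ fs) → ∀ x : N, (∀ f ∈ fs, f ∈ l ∨ f • x = 0) → x = 0
  | [], _, x, hx => h0 x fun f hf => (hx f hf).resolve_left List.not_mem_nil
  | a :: l, hl, x, hx => by
    obtain ⟨n, hn⟩ := hp x a (hl a (by simp))
    induction n generalizing x with
    | zero => simpa using hn
    | succ n ih =>
      have h1 : a • x = 0 := by
        refine ih (a • x) (fun f hf => (hx f hf).imp_right fun h => by rw [smul_comm, h, smul_zero]) ?_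
        rwa [smul_smul, ← pow_succ]
      refine eq_zero_of_torsion fs h0 hp l (fun b hb => hl b (by simp [hb])) x fun f hf => ?_
      rcases hx f hf with h | h
      · rcases List.mem_cons.1 h with rfl | h'
        · exact Or.inr h1
        · exact Or.inl h'
      · exact Or.inr h

theorem isZero_extCechH_of_koszulRegular (fs : List R) (hfs : LCI.IsKoszulRegularSeq R fs)
    (q : ℤ) (hq : q ≠ (fs.length : ℤ)) :
    IsZero ((DerCA.extCech (ModuleCat.of R R) fs).homology q) := by
  let E := DerCA.extCech (ModuleCat.of R R) fs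
  have hout : ∀ i : ℤ, i < 0 ∨ (fs.length : ℤ) < i → IsZero (E.homology i) := fun i hi =>
    (E.exactAt_iff_isZero_homology i).mp
      (ShortComplex.exact_of_isZero_X₂ _ (DRing.ExtCech.vanishesOutside _ fs i (by omega)))
  by_cases hb : q < 0 ∨ (fs.length : ℤ) < q
  · exact hout q hb
  obtain ⟨n, rfl⟩ : ∃ n : ℕ, (n : ℤ) = q := ⟨q.toNat, by omega⟩
  clear hb
  induction n using Nat.strong_induction_on with
  | _ n ih =>
    by_cases hn : (fs.length : ℤ) < n
    · exact hout _ (Or.inr hn)
    have hlow : ∀ i < (n : ℤ), IsZero (E.homology i) := fun i hi => by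
      by_cases h0 : i < 0
      · exact hout i (Or.inl h0)
      · obtain ⟨k, rfl⟩ : ∃ k : ℕ, (k : ℤ) = i := ⟨i.toNat, by omega⟩
        exact ih k (by omega) (by omega)
    obtain ⟨ψ, -, hr⟩ := (exists_bottom E n hlow fs).2 ((n : ℤ) - fs.length) (by omega)
    haveI := ModuleCat.subsingleton_of_isZero
      (isZero_It_extCech fs hfs fs (fun _ h => h) ((n : ℤ) - fs.length) (by omega))
    refine @ModuleCat.isZero_of_subsingleton _ _ _ (subsingleton_of_forall_eq 0 fun x => ?_)
    refine eq_zero_of_torsion fs (fun x hx => ?_)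
      (fun x f hf => DRing.ExtCech.exists_pow_of_mem _ fs hf n x) fs (fun _ h => h) x
      (fun f hf => Or.inl hf)
    obtain ⟨y, rfl⟩ := hr x hx
    rw [Subsingleton.elim y 0, map_zero]

end Groth.Agent.KoszulMul.CechRegular
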