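import Groth.Agent.DRing.ConeTensor
import Groth.Agent.KoszulWiebe.Kos
import Groth.Agent.KoszulMul.Append

/-! `K(f) ⊗ K(g) ≅ K(f ++ g)`. -/

universe u
open CategoryTheory CategoryTheory.Limits MonoidalCategory CochainComplex HomComplex

namespace Groth.Agent.KoszulMul.TensorAppend

open DRing.Tensor (ιT)

variable {A : Type u} [CommRing A]

theorem smul_id_whiskerRight (x : A) (E L : DRing.Cx A) : (x • 𝟙 E) ▷ L = x • 𝟙 (E ⊗ L) := by
  ext n : 1
  refine DRing.Tensor.hom_ext fun p q h => ?_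
  rw [DRing.ConeTensor.ιT_whiskerRight]
  simp only [HomologicalComplex.smul_f_apply, HomologicalComplex.id_f]
  rw [MonoidalLinear.smul_whiskerRight, id_whiskerRight, Linear.smul_comp, Category.id_comp,
    Linear.comp_smul, Category.comp_id]

theorem nonempty_iso : ∀ f g : List A,
    Nonempty (Koszul.koszul A f ⊗ Koszul.koszul A g ≅ Koszul.koszul A (f ++ g))
  | [], g => ⟨λ_ (Koszul.koszul A g)⟩
  | x :: f, g => by
    obtain ⟨e⟩ := nonempty_iso f g
    obtain ⟨j⟩ := KoszulWiebe.nonempty_coneIso ((x • 𝟙 (Koszul.koszul A f)) ▷ Koszul.koszul A g)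
      (x • 𝟙 (Koszul.koszul A (f ++ g))) e (by rw [smul_id_whiskerRight]; simp)
    exact ⟨DRing.ConeTensor.iso (x • 𝟙 (Koszul.koszul A f)) (Koszul.koszul A g) ≪≫ j⟩

end Groth.Agent.KoszulMul.TensorAppend
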